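import Mathlib
import Cfsg.Agent.H752.Mp
import Cfsg.Agent.H781.Realized

/-!
# The fusion system of a finite group with a group of automorphisms (S5261)

* `exists_real` : the fusion system over the whole group `S` induced by an injective homomorphism onto a Sylow subgroup;
* `exists_real_aut` : the fusion system of `G0 ⋊ A`, `A` a group of automorphisms of `G0` of order prime to `p`.
-/

set_option autoImplicit false

namespace Cfsg.Agent.H491.FS

open Cfsg Cfsg.FusionSystem Cfsg.Agent.H752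

universe u v

/-- the realisation in a group of the same universe -/
theorem exists_real_same {S : Type u} [Group S] {p : ℕ} [Fact p.Prime] {G0 : Type u} [Group G0] [Finite G0]
    (φ : S →* G0) (hφ : Function.Injective φ) (hS : ∃ T : Sylow p G0, (T : Subgroup G0) = φ.range) :
    ∃ F : FusionSystem (⊤ : Subgroup S), F.IsSaturated p ∧ F.IsRealizable p ∧
      ∀ (Q : Subgroup S) (f : S → S), Mp F Q f ↔ ∃ g : G0, ∀ x ∈ Q, φ (f x) = g * φ x * g⁻¹ := by
  obtain ⟨T, hT⟩ := hS
  have : Finite S := Finite.of_injective φ hφ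
  set ι : (⊤ : Subgroup S) →* G0 := φ.comp (⊤ : Subgroup S).subtype with hι
  have hιi : Function.Injective ι := fun x y h => Subtype.ext (hφ h)
  have hTι : (T : Subgroup G0) = ι.range := by
    rw [hT]
    ext y
    constructor
    · rintro ⟨x, rfl⟩
      exact ⟨⟨x, Subgroup.mem_top x⟩, rfl⟩
    · rintro ⟨x, rfl⟩
      exact ⟨x, rfl⟩
  have hr : (H781.pullback ι hιi).IsRealizedBy ι := H781.pullback_isRealizedBy ι hιi
  have hreal : (H781.pullback ι hιi).IsRealizable p := ⟨G0, inferInstance, inferInstance, ι, hr, T, hTι⟩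
  refine ⟨H781.pullback ι hιi, H781.isSaturated_of_isRealizable hreal, hreal, fun Q f => ⟨?_, ?_⟩⟩
  · rintro ⟨ψ, ⟨_, _, g, hg⟩, hψ⟩
    refine ⟨g, fun x hx => ?_⟩
    rw [← hψ x hx]
    exact hg ⟨x, hx⟩
  · rintro ⟨g, hg⟩
    refine ⟨MonoidHom.mk' (fun x : Q => f x) ?_, ⟨le_top, fun _ => Subgroup.mem_top _, g, fun x => ?_⟩,
      fun x hx => rfl⟩
    · intro a b
      apply hφ
      rw [map_mul, hg _ a.2, hg _ b.2, hg _ (a * b).2, Subgroup.coe_mul, map_mul]
      group
    · exact hg x x.2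

/-- **The fusion system over `S` induced by an injective homomorphism onto a Sylow subgroup of a finite group.** -/
theorem exists_real {S : Type u} [Group S] {p : ℕ} [Fact p.Prime] {G0 : Type v} [Group G0] [Finite G0]
    (φ : S →* G0) (hφ : Function.Injective φ) (hS : ∃ T : Sylow p G0, (T : Subgroup G0) = φ.range) :
    ∃ F : FusionSystem (⊤ : Subgroup S), F.IsSaturated p ∧ F.IsRealizable p ∧
      ∀ (Q : Subgroup S) (f : S → S), Mp F Q f ↔ ∃ g : G0, ∀ x ∈ Q, φ (f x) = g * φ x * g⁻¹ := by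
  have : Small.{u} G0 := Countable.toSmall G0
  obtain ⟨T, hT⟩ := hS
  let e : G0 ≃* Shrink.{u} G0 := (Shrink.mulEquiv (α := G0)).symm
  have : Finite (Shrink.{u} G0) := Finite.of_equiv G0 e.toEquiv
  obtain ⟨F, h1, h2, h3⟩ := exists_real_same (G0 := Shrink.{u} G0) (e.toMonoidHom.comp φ)
    (e.injective.comp hφ) ⟨T.mapSurjective e.surjective, by
      rw [Sylow.coe_mapSurjective, hT, MonoidHom.range_comp]⟩
  refine ⟨F, h1, h2, fun Q f => (h3 Q f).trans ⟨?_, ?_⟩⟩
  · rintro ⟨g, hg⟩
    refine ⟨e.symm g, fun x hx => e.injective ?_⟩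
    have := hg x hx
    simp only [map_mul, map_inv, MulEquiv.apply_symm_apply]
    exact this
  · rintro ⟨g, hg⟩
    refine ⟨e g, fun x hx => ?_⟩
    show e (φ (f x)) = e g * e (φ x) * (e g)⁻¹
    rw [hg x hx, map_mul, map_mul, map_inv]

/-- **The fusion system of `G0 ⋊ A`.** -/
theorem exists_real_aut {S : Type u} [Group S] {p : ℕ} [Fact p.Prime] {G0 : Type v} [Group G0] [Finite G0]
    (P : Sylow p G0) (e : S ≃* ↥(P : Subgroup G0)) (A : Subgroup (MulAut G0)) (hA : (Nat.card A).Coprime p) :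
    ∃ F : FusionSystem (⊤ : Subgroup S), F.IsSaturated p ∧ F.IsRealizable p ∧
      ∀ (Q : Subgroup S) (f : S → S), Mp F Q f ↔
        ∃ a ∈ A, ∃ g : G0, ∀ x ∈ Q, ((e (f x) : ↥(P : Subgroup G0)) : G0) = g * a (e x : G0) * g⁻¹ := by
  classical
  have hp : p.Prime := Fact.out
  have : Finite S := Finite.of_equiv _ e.symm.toEquiv
  let Γ := G0 ⋊[A.subtype] A
  have eq : Γ ≃ G0 × A := SemidirectProduct.equivProd
  have hfin : Finite Γ := Finite.of_equiv _ eq.symm
  let φ : S →* Γ := (SemidirectProduct.inl : G0 →* Γ).comp ((P : Subgroup G0).subtype.comp e.toMonoidHom)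
  have hφ : Function.Injective φ := by
    intro x y h
    exact e.injective (Subtype.ext (SemidirectProduct.inl_injective h))
  have hcard : Nat.card Γ = Nat.card G0 * Nat.card A := by
    rw [Nat.card_congr eq, Nat.card_prod]
  have hcard' : Nat.card φ.range = p ^ (Nat.card Γ).factorization p := by
    have h1 : Nat.card φ.range = Nat.card P := by
      rw [← Nat.card_congr (MonoidHom.ofInjective hφ).toEquiv]
      exact Nat.card_congr e.toEquiv
    rw [h1, P.card_eq_multiplicity, hcard, Nat.factorization_mul Nat.card_pos.ne' Nat.card_pos.ne', Finsupp.add_apply,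
      Nat.factorization_eq_zero_of_not_dvd (n := Nat.card A) (fun h => ?_), add_zero]
    exact hp.one_lt.ne' (Nat.eq_one_of_dvd_coprimes hA h dvd_rfl)
  obtain ⟨F, h1, h2, h3⟩ := exists_real (p := p) φ hφ ⟨Sylow.ofCard φ.range hcard', rfl⟩
  refine ⟨F, h1, h2, fun Q f => (h3 Q f).trans ?_⟩
  have key : ∀ (g : G0) (a : A) (x : G0), (⟨g, a⟩ : Γ) * SemidirectProduct.inl x * (⟨g, a⟩ : Γ)⁻¹ =
      SemidirectProduct.inl (g * (a : MulAut G0) x * g⁻¹) := by
    intro g a x
    have e1 : (⟨g, a⟩ : Γ) = SemidirectProduct.inl g * SemidirectProduct.inr a :=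
      (SemidirectProduct.inl_left_mul_inr_right (⟨g, a⟩ : Γ)).symm
    rw [e1, mul_inv_rev, map_mul, map_mul, map_inv]
    have e2 := SemidirectProduct.inl_aut (φ := A.subtype) a x
    have e3 : A.subtype a x = (a : MulAut G0) x := rfl
    rw [e3, map_inv] at e2
    rw [e2]
    group
  constructor
  · rintro ⟨⟨g, a⟩, hg⟩
    refine ⟨a, a.2, g, fun x hx => ?_⟩
    have h4 := hg x hx
    have h5 : φ x = SemidirectProduct.inl (e x : G0) := rfl
    rw [h5, key] at h4
    exact SemidirectProduct.inl_injective h4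
  · rintro ⟨a, ha, g, hg⟩
    refine ⟨⟨g, ⟨a, ha⟩⟩, fun x hx => ?_⟩
    have h5 : φ x = SemidirectProduct.inl (e x : G0) := rfl
    rw [h5, key]
    show SemidirectProduct.inl ((e (f x) : ↥(P : Subgroup G0)) : G0) = _
    rw [hg x hx]

end Cfsg.Agent.H491.FS
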