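import Mathlib
import Cfsg.Agent.H491.FS.Real
import Cfsg.Agent.H756.PU.Engine
import Cfsg.Agent.KFacts.RgdAutFacts
import Cfsg.Agent.KFacts.RgdRigid

/-!
# The fusion systems of a group with a root group datum and `p'`-automorphisms (S5261, S5210, S5211, S5262)

`real_rgd` : for a root group datum on `Y` and a `p'`-group `D` of automorphisms of `U` which extend to automorphisms of `Y`
fixing the frame, containing the automorphisms induced by `T`, the fusion system of `Y ⋊ D` over `U`.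
-/

set_option autoImplicit false
set_option linter.unusedSectionVars false

namespace Cfsg.Agent.H491.FS

open Cfsg Cfsg.FusionSystem Cfsg.Agent.H752 Cfsg.Agent.H802 Cfsg.Agent.H756.PU
open CoxeterSystem Cfsg.Agent.ChevalleyStructure.CoxeterGeom Cfsg.Agent.Tits.Roots Cfsg.Agent.Tits.Core
  Cfsg.Agent.Tits.Exchange Cfsg.Agent.Nodes.Reps Cfsg.Agent.Nodes.BNOf Cfsg.Agent.Nodes.StabComb
  Cfsg.Agent.Nodes.Bruhat Cfsg.Agent.Nodes.OppDec Cfsg.Agent.Nodes.LeviDec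
open Cfsg.Agent.KFacts.RgdOpp Cfsg.Agent.KFacts.RgdAut Cfsg.Agent.KFacts.RgdDiag Cfsg.Agent.KFacts.RgdRigid
  Cfsg.Agent.KFacts.RgdEx

universe u v

/-- the elements of `AF F` -/
theorem mem_AF {S : Type u} [Group S] (F : FusionSystem (⊤ : Subgroup S)) (θ : MulAut S) :
    θ ∈ AF F ↔ Mp F ⊤ θ := by
  constructor
  · rintro ⟨α, hα, rfl⟩
    have h1 := (mem_autGroup_iff F le_rfl α).1 hα
    refine ⟨_, h1, fun x hx => ?_⟩
    rfl
  · rintro ⟨φ, hφ, h1⟩
    refine ⟨(MulAut.congr Subgroup.topEquiv).symm θ, ?_, ?_⟩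
    · refine (mem_autGroup_iff F le_rfl _).2 ?_
      refine mem_of_apply_eq hφ fun x => ?_
      exact (h1 x x.2).symm
    · show (MulAut.congr Subgroup.topEquiv) ((MulAut.congr Subgroup.topEquiv).symm θ) = θ
      exact MulEquiv.apply_symm_apply _ _

variable {I W : Type*} {Y : Type v} [Fintype I] [DecidableEq I] [Group W] [Group Y] {M : CoxeterMatrix I}
  {cs : CoxeterSystem M W} {A : I → I → ℤ} {h : IsCartan M A} {p : ℕ} {T : Subgroup Y} {n : I → Y}
  {X : (I → ℤ) → Subgroup Y} (R : RGD cs h p T n X) [Finite W] [Finite Y] [Fact p.Prime]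

include R

/-- automorphisms fixing the frame fix `U` -/
theorem diag_fix_U {α : MulAut Y} (D : Diag T X α 1) : Fix α (RGD.Sup X (RGD.Pos cs h)) := by
  have h1 : ∀ {α : MulAut Y}, Diag T X α 1 → ∀ x ∈ RGD.Sup X (RGD.Pos cs h), α x ∈ RGD.Sup X (RGD.Pos cs h) := by
    intro α D x hx
    have h2 : RGD.Sup X (RGD.Pos cs h) ≤ (RGD.Sup X (RGD.Pos cs h)).comap α.toMonoidHom := by
      refine RGD.Sup_le fun z hz y hy => ?_
      have h3 := D.root_comp R (fun _ _ => rfl) hz.1 y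
      exact RGD.le_Sup (S := RGD.Pos cs h) hz (h3.2 hy)
    exact h2 hx
  intro x
  refine ⟨fun hx => ?_, h1 D x⟩
  have D' := D.inv
  rw [inv_one] at D'
  have := h1 D' _ hx
  rwa [MulAut.inv_apply_self] at this

/-- `X (-α_i) ∩ U = 1` -/
theorem neg_inf_U {i : I} {y : Y} (hy : y ∈ X (-sr i)) (hU : y ∈ RGD.Sup X (RGD.Pos cs h)) : y = 1 := by
  have h1 : y ∈ X (-sr i) ⊓ RGD.B cs h T X := ⟨hy, RGD.U_le_B hU⟩
  rw [Cfsg.Agent.Nodes.Unique.neg_inf_B R i] at h1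
  exact h1

/-- **The fusion system of a root group datum extended by automorphisms of the frame of order prime to `p`.** -/
theorem real_rgd (hG1 : RGD.Sup X {x | IsRoot cs h x} = ⊤) {S : Type u} [Group S]
    (e : S ≃* ↥(RGD.Sup X (RGD.Pos cs h))) (D : Subgroup (MulAut S)) (hD : (Nat.card D).Coprime p)
    (hext : ∀ d ∈ D, ∃ α : MulAut Y, Diag T X α 1 ∧ ∀ x, ((e (d x) : ↥(RGD.Sup X (RGD.Pos cs h))) : Y) = α (e x))
    (htor : ∀ t ∈ T, ∃ d ∈ D, ∀ x, ((e (d x) : ↥(RGD.Sup X (RGD.Pos cs h))) : Y) = t * e x * t⁻¹) :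
    ∃ F : FusionSystem (⊤ : Subgroup S), F.IsSaturated p ∧ F.IsRealizable p ∧
      AF F = (MulAut.conj : S →* MulAut S).range ⊔ D ∧
      (∀ (Q : Subgroup S) (f : S → S), Mp F Q f ↔ ∃ α : MulAut Y, (∃ d ∈ D, ∀ x,
        ((e (d x) : ↥(RGD.Sup X (RGD.Pos cs h))) : Y) = α (e x)) ∧ Diag T X α 1 ∧ ∃ g : Y, ∀ x ∈ Q,
        ((e (f x) : ↥(RGD.Sup X (RGD.Pos cs h))) : Y) = g * α (e x) * g⁻¹) ∧
      ∀ i : I, Subgroup.centralizer (VJ cs h X {i} : Set Y) ≤ VJ cs h X {i} → ∀ Q : Subgroup S,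
        (∀ x, x ∈ Q ↔ ((e x : ↥(RGD.Sup X (RGD.Pos cs h))) : Y) ∈ VJ cs h X {i}) →
        ¬ ∀ γ ∈ F.autGroup Q, NormAut (⊤ : Subgroup S) γ := by
  classical
  have hG := Cfsg.Agent.KFacts.RgdRigid.GG_eq_top (T := T) hG1
  have : Finite S := Finite.of_equiv _ e.symm.toEquiv
  obtain ⟨P, hP⟩ := Cfsg.Agent.KFacts.RgdAutFacts.exists_sylow R hG
  let e' : S ≃* ↥(P : Subgroup Y) := e.trans (MulEquiv.subgroupCongr hP.symm)
  have he' : ∀ x : S, ((e' x : ↥(P : Subgroup Y)) : Y) = e x := fun x => rfl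
  -- the group of automorphisms
  let B : Subgroup (MulAut Y) :=
    { carrier := {α | (∃ d ∈ D, ∀ x, ((e (d x) : ↥(RGD.Sup X (RGD.Pos cs h))) : Y) = α (e x)) ∧ Diag T X α 1}
      mul_mem' := by
        rintro α β ⟨⟨d, hd, h1⟩, h2⟩ ⟨⟨d', hd', h1'⟩, h2'⟩
        refine ⟨⟨d * d', mul_mem hd hd', fun x => ?_⟩, by simpa using h2.mul h2'⟩
        rw [MulAut.mul_apply, h1, h1', MulAut.mul_apply]
      one_mem' := ⟨⟨1, one_mem D, fun x => rfl⟩, Diag.one⟩
      inv_mem' := by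
        rintro α ⟨⟨d, hd, h1⟩, h2⟩
        refine ⟨⟨d⁻¹, inv_mem hd, fun x => ?_⟩, by simpa using h2.inv⟩
        have h3 := h1 (d⁻¹ x)
        rw [MulAut.apply_inv_self] at h3
        rw [h3, MulAut.inv_apply_self] }
  have hBc : (Nat.card B).Coprime p := by
    choose d hd h1 using fun b : B => b.2.1
    let f : B → D := fun b => ⟨d b, hd b⟩
    have hf : Function.Injective f := by
      intro b b' hbb
      have h2 : d b = d b' := congrArg Subtype.val hbb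
      have h3 : (b : MulAut Y) * (b' : MulAut Y)⁻¹ = 1 := by
        have D1 : Diag T X ((b : MulAut Y) * (b' : MulAut Y)⁻¹) 1 := by simpa using b.2.2.mul b'.2.2.inv
        refine Diag.eq_one R hG1 D1 fun i x hx => ?_
        have hxU : x ∈ RGD.Sup X (RGD.Pos cs h) :=
          RGD.le_Sup (S := RGD.Pos cs h) ⟨isRoot_sr cs h i, sr_nonneg i⟩ hx
        have hy : (b' : MulAut Y)⁻¹ x ∈ RGD.Sup X (RGD.Pos cs h) := by
          have D2 := b'.2.2.inv
          rw [inv_one] at D2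
          exact (diag_fix_U R D2 x).2 hxU
        set y : ↥(RGD.Sup X (RGD.Pos cs h)) := ⟨(b' : MulAut Y)⁻¹ x, hy⟩ with hyd
        have h4 := h1 b (e.symm y)
        have h5 := h1 b' (e.symm y)
        rw [e.apply_symm_apply] at h4 h5
        rw [MulAut.mul_apply]
        have h6 : (b : MulAut Y) ((b' : MulAut Y)⁻¹ x) = (b' : MulAut Y) ((b' : MulAut Y)⁻¹ x) := by
          have h7 : (b : MulAut Y) (y : Y) = (b' : MulAut Y) (y : Y) := by rw [← h4, ← h5, h2]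
          exact h7
        rw [h6, MulAut.apply_inv_self]
      exact Subtype.ext (mul_inv_eq_one.1 h3)
    -- `f` is a homomorphism
    have hfm : ∀ b b', f (b * b') = f b * f b' := by
      intro b b'
      apply Subtype.ext
      apply MulEquiv.ext
      intro x
      apply e.injective
      apply Subtype.ext
      show ((e (d (b * b') x) : ↥(RGD.Sup X (RGD.Pos cs h))) : Y) = e ((d b * d b') x)
      rw [h1, MulAut.mul_apply, h1, h1]
      rfl
    have h3 : Nat.card B ∣ Nat.card D := Subgroup.card_dvd_of_injective (MonoidHom.mk' f hfm) hf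
    exact Nat.Coprime.coprime_dvd_left h3 hD
  obtain ⟨F, hF1, hF2, hF3⟩ := exists_real_aut P e' B hBc
  have hF4 : ∀ (Q : Subgroup S) (f : S → S), Mp F Q f ↔ ∃ α : MulAut Y, (∃ d ∈ D, ∀ x,
        ((e (d x) : ↥(RGD.Sup X (RGD.Pos cs h))) : Y) = α (e x)) ∧ Diag T X α 1 ∧ ∃ g : Y, ∀ x ∈ Q,
        ((e (f x) : ↥(RGD.Sup X (RGD.Pos cs h))) : Y) = g * α (e x) * g⁻¹ := by
    intro Q f
    rw [hF3]
    constructor
    · rintro ⟨α, ⟨h1, h2⟩, g, hg⟩
      exact ⟨α, h1, h2, g, hg⟩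
    · rintro ⟨α, h1, h2, g, hg⟩
      exact ⟨α, ⟨h1, h2⟩, g, hg⟩
  refine ⟨F, hF1, hF2, ?_, hF4, ?_⟩
  · apply le_antisymm
    · intro θ hθ
      obtain ⟨α, ⟨d, hd, h1⟩, h2, g, hg⟩ := (hF4 _ _).1 ((mem_AF F θ).1 hθ)
      -- `g` normalises `U`
      have hgN : g ∈ Subgroup.normalizer (RGD.Sup X (RGD.Pos cs h) : Set Y) := by
        have h3 : ∀ y ∈ RGD.Sup X (RGD.Pos cs h), g * y * g⁻¹ ∈ RGD.Sup X (RGD.Pos cs h) := by
          intro y hy
          have D2 := h2.inv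
          rw [inv_one] at D2
          have hy' : α⁻¹ y ∈ RGD.Sup X (RGD.Pos cs h) := (diag_fix_U R D2 y).2 hy
          have h4 := hg (e.symm ⟨α⁻¹ y, hy'⟩) (Subgroup.mem_top _)
          rw [e.apply_symm_apply] at h4
          have h5 : α ((⟨α⁻¹ y, hy'⟩ : ↥(RGD.Sup X (RGD.Pos cs h))) : Y) = y := MulAut.apply_inv_self _ α y
          rw [h5] at h4
          rw [← h4]
          exact (e _).2
        exact Subgroup.mem_normalizer_fintype h3
      rw [normalizer_U' R hG] at hgN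
      obtain ⟨t, ht, u, hu, rfl⟩ := R.mem_B.1 hgN
      obtain ⟨dt, hdt, h3⟩ := htor t ht
      have h4 : θ = dt * MulAut.conj (e.symm ⟨u, hu⟩) * d := by
        apply MulEquiv.ext
        intro x
        apply e.injective
        apply Subtype.ext
        rw [hg x (Subgroup.mem_top _), MulAut.mul_apply, MulAut.mul_apply, h3, MulAut.conj_apply, map_mul, map_mul,
          map_inv, e.apply_symm_apply]
        show _ = t * (u * ((e (d x) : ↥(RGD.Sup X (RGD.Pos cs h))) : Y) * u⁻¹) * t⁻¹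
        rw [h1]
        group
      rw [h4]
      exact mul_mem (mul_mem ((le_sup_right : D ≤ _) hdt) ((le_sup_left : (MulAut.conj : S →* MulAut S).range ≤ _)
        ⟨_, rfl⟩)) ((le_sup_right : D ≤ _) hd)
    · refine sup_le ?_ ?_
      · rintro _ ⟨s, rfl⟩
        refine (mem_AF F _).2 ((hF4 _ _).2 ⟨1, ⟨1, one_mem D, fun x => rfl⟩, Diag.one, (e s : Y), fun x _ => ?_⟩)
        rw [MulAut.conj_apply, map_mul, map_mul, map_inv]
        rfl
      · intro d hd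
        obtain ⟨α, h1, h2⟩ := hext d hd
        refine (mem_AF F _).2 ((hF4 _ _).2 ⟨α, ⟨d, hd, h2⟩, h1, 1, fun x _ => ?_⟩)
        rw [h2, one_mul, inv_one, mul_one]
  · intro i hcent Q hQ hcon
    have hU : ∀ {v : Y}, v ∈ VJ cs h X {i} → v ∈ RGD.Sup X (RGD.Pos cs h) := fun {v} hv => VJ_le_U _ hv
    have hnN : n i ∈ Subgroup.normalizer (VJ cs h X {i} : Set Y) :=
      PJ_le_normalizer_VJ R {i} (LJ_le_PJ (n_mem_LJ R (Set.mem_singleton i)))
    have hnv : ∀ {v : Y}, v ∈ VJ cs h X {i} → n i * v * (n i)⁻¹ ∈ VJ cs h X {i} := fun {v} hv =>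
      (Subgroup.mem_normalizer_iff.1 hnN v).1 hv
    let f : S → S := fun x => if hx : n i * (e x : Y) * (n i)⁻¹ ∈ RGD.Sup X (RGD.Pos cs h) then
      e.symm ⟨_, hx⟩ else 1
    have hf : ∀ x ∈ Q, ((e (f x) : ↥(RGD.Sup X (RGD.Pos cs h))) : Y) = n i * (e x : Y) * (n i)⁻¹ := by
      intro x hx
      have h1 : n i * (e x : Y) * (n i)⁻¹ ∈ RGD.Sup X (RGD.Pos cs h) := hU (hnv ((hQ x).1 hx))
      have h2 : f x = e.symm ⟨_, h1⟩ := dif_pos h1
      rw [h2, e.apply_symm_apply]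
    obtain ⟨φ, hφ, h1⟩ := (hF4 Q f).2 ⟨1, ⟨1, one_mem D, fun x => rfl⟩, Diag.one, n i, hf⟩
    have hφQ : ∀ x : Q, φ x ∈ Q := by
      intro x
      rw [hQ, h1 x x.2, hf x x.2]
      exact hnv ((hQ x).1 x.2)
    obtain ⟨γ, hγ, h2⟩ := exists_aut hφ (range_eq_of_mapsTo hφ hφQ)
    have hγ' : ∀ x : Q, ((e ((γ x : Q) : S) : ↥(RGD.Sup X (RGD.Pos cs h))) : Y) = n i * (e (x : S) : Y) * (n i)⁻¹ := by
      intro x
      rw [h2, h1 x x.2, hf x x.2]
    obtain ⟨x₀, hx₀, hx₀1⟩ := exists_ne_one R i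
    have hx₀U : x₀ ∈ RGD.Sup X (RGD.Pos cs h) :=
      RGD.le_Sup (S := RGD.Pos cs h) ⟨isRoot_sr cs h i, sr_nonneg i⟩ hx₀
    have hUN : ∀ {u : Y}, u ∈ RGD.Sup X (RGD.Pos cs h) → u ∈ Subgroup.normalizer (VJ cs h X {i} : Set Y) := by
      intro u hu
      exact PJ_le_normalizer_VJ R {i} (B_le_PJ (RGD.U_le_B hu))
    have hs₀ : e.symm ⟨x₀, hx₀U⟩ ∈ Subgroup.normalizer (Q : Set S) := by
      refine Subgroup.mem_normalizer_fintype (S := (Q : Set S)) fun y hy => ?_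
      show _ ∈ Q
      rw [hQ, map_mul, map_mul, map_inv, e.apply_symm_apply]
      exact (Subgroup.mem_normalizer_iff.1 (hUN hx₀U) _).1 ((hQ y).1 hy)
    obtain ⟨α₀, hα₀⟩ := exists_conjAut hs₀
    have h3 := hcon γ hγ α₀ ((mem_autInducedBy_iff _ _ _).2 ⟨_, Subgroup.mem_top _, hα₀⟩)
    obtain ⟨s, -, h4⟩ := (mem_autInducedBy_iff _ _ _).1 h3
    set y := n i * x₀ * (n i)⁻¹ with hy
    have h5 : (e s : Y)⁻¹ * y ∈ Subgroup.centralizer (VJ cs h X {i} : Set Y) := by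
      rw [Subgroup.mem_centralizer_iff]
      intro v hv
      have hvQ : e.symm ⟨v, hU hv⟩ ∈ Q := by
        rw [hQ, e.apply_symm_apply]
        exact hv
      obtain ⟨w, hw⟩ := γ.surjective ⟨_, hvQ⟩
      have h6 := h4 (γ w)
      rw [MulAut.mul_apply, MulAut.mul_apply, MulAut.inv_apply_self] at h6
      have h7 := congrArg (fun z : S => ((e z : ↥(RGD.Sup X (RGD.Pos cs h))) : Y)) h6
      simp only [map_mul, map_inv, Subgroup.coe_mul, Subgroup.coe_inv] at h7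
      rw [hγ', hα₀, map_mul, map_mul, map_inv, e.apply_symm_apply] at h7
      have h8 : ((e ((γ w : Q) : S) : ↥(RGD.Sup X (RGD.Pos cs h))) : Y) = v := by
        rw [hw]
        show ((e (e.symm ⟨v, hU hv⟩) : ↥(RGD.Sup X (RGD.Pos cs h))) : Y) = v
        rw [e.apply_symm_apply]
      have h9 := hγ' w
      rw [h8] at h9 h7
      have h10 : y * v * y⁻¹ = (e s : Y) * v * (e s : Y)⁻¹ := by
        rw [← h7, h9, hy]
        show _ = n i * (x₀ * (e (w : S) : Y) * x₀⁻¹) * (n i)⁻¹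
        group
      calc v * ((e s : Y)⁻¹ * y) = (e s : Y)⁻¹ * ((e s : Y) * v * (e s : Y)⁻¹) * y := by group
        _ = (e s : Y)⁻¹ * (y * v * y⁻¹) * y := by rw [h10]
        _ = _ := by group
    have h6 : y ∈ RGD.Sup X (RGD.Pos cs h) := by
      have h7 := mul_mem (e s).2 (hU (hcent h5))
      rwa [mul_inv_cancel_left] at h7
    have h7 : y ∈ X (-sr i) := by
      have h8 := R.conj i (sr i) (isRoot_sr cs h i)
      rw [rep_simple_sr] at h8
      rw [← h8]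
      exact conj_mem_cj.2 hx₀
    have h8 := neg_inf_U R h7 h6
    apply hx₀1
    have h9 : x₀ = (n i)⁻¹ * y * n i := by rw [hy]; group
    rw [h9, h8]
    group

end Cfsg.Agent.H491.FS
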