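import Mathlib
import Cfsg.Agent.H491.FS.Rgd

/-!
# The automorphism groups of the minimal parabolic subgroups in the realised fusion systems (S5261)
-/

set_option autoImplicit false
set_option linter.unusedSectionVars false

namespace Cfsg.Agent.H491.FS

open Cfsg Cfsg.FusionSystem Cfsg.Agent.H752 Cfsg.Agent.H802 Cfsg.Agent.H756.PU
open CoxeterSystem Cfsg.Agent.ChevalleyStructure.CoxeterGeom Cfsg.Agent.Tits.Roots Cfsg.Agent.Tits.Core
  Cfsg.Agent.Tits.Exchange Cfsg.Agent.Nodes.Reps Cfsg.Agent.Nodes.BNOf Cfsg.Agent.Nodes.StabComb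
  Cfsg.Agent.Nodes.Bruhat Cfsg.Agent.Nodes.OppDec Cfsg.Agent.Nodes.LeviDec
open Cfsg.Agent.KFacts.RgdOpp Cfsg.Agent.KFacts.RgdAut Cfsg.Agent.KFacts.RgdDiag Cfsg.Agent.KFacts.RgdRigid
  Cfsg.Agent.KFacts.RgdEx

universe u v

variable {I W : Type*} {Y : Type v} [Fintype I] [DecidableEq I] [Group W] [Group Y] {M : CoxeterMatrix I}
  {cs : CoxeterSystem M W} {A : I → I → ℤ} {h : IsCartan M A} {p : ℕ} {T : Subgroup Y} {n : I → Y}
  {X : (I → ℤ) → Subgroup Y} (R : RGD cs h p T n X) [Finite W] [Finite Y] [Fact p.Prime]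

include R

/-- `n j` normalises `V_i` only for `j = i` -/
theorem n_mem_norm_VJ {i j : I} : n j ∈ Subgroup.normalizer (VJ cs h X {i} : Set Y) ↔ j = i := by
  constructor
  · intro hn
    by_contra hji
    obtain ⟨x, hx, hx1⟩ := exists_ne_one R j
    have h1 : x ∈ VJ cs h X {i} := RGD.le_Sup (S := NotJ cs h {i}) (sr_mem_NotJ (J := {i}) hji) hx
    have h2 : n j * x * (n j)⁻¹ ∈ VJ cs h X {i} := (Subgroup.mem_normalizer_iff.1 hn x).1 h1
    have h3 : n j * x * (n j)⁻¹ ∈ X (-sr j) := by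
      have h8 := R.conj j (sr j) (isRoot_sr cs h j)
      rw [rep_simple_sr] at h8
      rw [← h8]
      exact conj_mem_cj.2 hx
    have h4 := neg_inf_U R h3 (VJ_le_U _ h2)
    apply hx1
    have h9 : x = (n j)⁻¹ * (n j * x * (n j)⁻¹) * n j := by group
    rw [h9, h4]
    group
  · rintro rfl
    exact PJ_le_normalizer_VJ R {j} (LJ_le_PJ (n_mem_LJ R (Set.mem_singleton j)))

/-- the normaliser of `V_i` -/
theorem normalizer_VJ (hG : GG cs h T X = ⊤) (i : I) :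
    Subgroup.normalizer (VJ cs h X {i} : Set Y) = PJ cs h T X {i} := by
  have h1 := inf_eq_PJ R (P := Subgroup.normalizer (VJ cs h X {i} : Set Y))
    (fun b hb => PJ_le_normalizer_VJ R {i} (B_le_PJ hb))
  rw [hG, inf_top_eq] at h1
  rw [h1]
  congr 1
  ext j
  exact n_mem_norm_VJ R

/-- the elements of `W_{i}` -/
theorem mem_WJ_single {i : I} {w : W} (hw : w ∈ WJ cs {i}) : w = 1 ∨ w = cs.simple i := by
  unfold WJ at hw
  rw [Set.image_singleton] at hw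
  refine Subgroup.closure_induction (p := fun w _ => w = 1 ∨ w = cs.simple i) ?_ (Or.inl rfl) ?_ ?_ hw
  · intro x hx
    exact Or.inr hx
  · rintro x y - - (rfl | rfl) (rfl | rfl)
    · left; simp
    · right; simp
    · right; simp
    · left; exact cs.simple_mul_simple_self i
  · rintro x - (rfl | rfl)
    · left; simp
    · right; exact cs.inv_simple i

/-- `N(V_i) = U T ∪ U n_i U T` -/
theorem mem_normalizer_VJ (hG : GG cs h T X = ⊤) {i : I} {g : Y}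
    (hg : g ∈ Subgroup.normalizer (VJ cs h X {i} : Set Y)) :
    ∃ u ∈ RGD.Sup X (RGD.Pos cs h), ∃ t ∈ T, g = u * t ∨ ∃ u' ∈ RGD.Sup X (RGD.Pos cs h), g = u' * n i * (u * t) := by
  rw [normalizer_VJ R hG, mem_PJ_iff_cell R] at hg
  obtain ⟨w, hw, b₁, hb₁, k, hk, b₂, hb₂, rfl⟩ := hg
  have hTU : ∀ {t u : Y}, t ∈ T → u ∈ RGD.Sup X (RGD.Pos cs h) → t * u * t⁻¹ ∈ RGD.Sup X (RGD.Pos cs h) := by
    intro t u ht hu
    have h1 : RGD.Sup X (RGD.Pos cs h) ≤ (RGD.Sup X (RGD.Pos cs h)).comap (MulAut.conj t).toMonoidHom := by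
      refine RGD.Sup_le fun z hz y hy => ?_
      show t * y * t⁻¹ ∈ RGD.Sup X (RGD.Pos cs h)
      have h2 := R.tor z hz.1 t ht
      refine RGD.le_Sup (S := RGD.Pos cs h) hz ?_
      rw [← h2]
      exact conj_mem_cj.2 hy
    exact h1 hu
  obtain ⟨t₁, ht₁, u₁, hu₁, rfl⟩ := R.mem_B.1 hb₁
  obtain ⟨t₂, ht₂, u₂, hu₂, rfl⟩ := R.mem_B.1 hb₂
  rcases mem_WJ_single (R := R) hw with rfl | rfl
  · have hkT := hk.mem_of_one
    refine ⟨(t₁ * u₁ * t₁⁻¹) * ((t₁ * k * t₂) * u₂ * (t₁ * k * t₂)⁻¹), mul_mem (hTU ht₁ hu₁)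
      (hTU (mul_mem (mul_mem ht₁ hkT) ht₂) hu₂), t₁ * k * t₂, mul_mem (mul_mem ht₁ hkT) ht₂, Or.inl ?_⟩
    group
  · have hkT : k * (n i)⁻¹ ∈ T := by
      have h1 : Rp cs R.nsys 1 (k * (n i)⁻¹) := by
        have h2 := hk.mul (rp_simple cs R.nsys i).inv
        rwa [mul_inv_cancel] at h2
      exact h1.mem_of_one
    set s := k * (n i)⁻¹ with hs
    have hk' : k = s * n i := by rw [hs]; group
    have hnT : ∀ {t : Y}, t ∈ T → (n i)⁻¹ * t * n i ∈ T := by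
      intro t ht
      have h2 : Rp cs R.nsys 1 t := rp_of_mem ht
      have h3 := ((rp_simple cs R.nsys i).inv.mul h2).mul (rp_simple cs R.nsys i)
      rw [mul_one, inv_mul_cancel] at h3
      exact h3.mem_of_one
    -- `t₁ u₁ s n t₂ u₂ = (t₁ u₁ t₁⁻¹) n ((n⁻¹ t₁ s n t₂) u₂ (…)⁻¹) (n⁻¹ t₁ s n t₂)`
    have hr : (n i)⁻¹ * (t₁ * s) * n i * t₂ ∈ T := mul_mem (hnT (mul_mem ht₁ hkT)) ht₂
    refine ⟨((n i)⁻¹ * (t₁ * s) * n i * t₂) * u₂ * ((n i)⁻¹ * (t₁ * s) * n i * t₂)⁻¹, hTU hr hu₂,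
      (n i)⁻¹ * (t₁ * s) * n i * t₂, hr, Or.inr ⟨t₁ * u₁ * t₁⁻¹, hTU ht₁ hu₁, ?_⟩⟩
    rw [hk']
    group

/-- conjugation by an element of `T` fixes the frame -/
theorem diag_conj {t : Y} (ht : t ∈ T) : Diag T X (MulAut.conj t) 1 where
  tor x := by
    rw [MulAut.conj_apply]
    constructor
    · intro h1
      have h2 := mul_mem (mul_mem (inv_mem ht) h1) ht
      have e : t⁻¹ * (t * x * t⁻¹) * t = x := by group
      rwa [e] at h2
    · intro h1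
      exact mul_mem (mul_mem ht h1) (inv_mem ht)
  pos i x := by
    have h1 := R.tor (sr i) (isRoot_sr cs h i) t ht
    show t * x * t⁻¹ ∈ X (sr i) ↔ _
    nth_rewrite 1 [← h1]
    exact conj_mem_cj
  neg i x := by
    have h1 := R.tor (-sr i) (isRoot_sr cs h i).neg t ht
    show t * x * t⁻¹ ∈ X (-sr i) ↔ _
    nth_rewrite 1 [← h1]
    exact conj_mem_cj

/-- automorphisms fixing the frame fix `V_J` -/
theorem diag_fix_V {α : MulAut Y} (D : Diag T X α 1) (J : Set I) {x : Y} (hx : x ∈ VJ cs h X J) :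
    α x ∈ VJ cs h X J := by
  have h2 : VJ cs h X J ≤ (VJ cs h X J).comap α.toMonoidHom := by
    refine RGD.Sup_le fun z hz y hy => ?_
    have h3 := D.root_comp R (fun _ _ => rfl) hz.1 y
    exact RGD.le_Sup (S := NotJ cs h J) hz (h3.2 hy)
  exact h2 hx

/-- **The automorphism groups of the minimal parabolic subgroups.** -/
theorem std_rgd (hG1 : RGD.Sup X {x | IsRoot cs h x} = ⊤) {S : Type u} [Group S]
    (e : S ≃* ↥(RGD.Sup X (RGD.Pos cs h))) (D : Subgroup (MulAut S))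
    (hext : ∀ d ∈ D, ∃ α : MulAut Y, Diag T X α 1 ∧ ∀ x, ((e (d x) : ↥(RGD.Sup X (RGD.Pos cs h))) : Y) = α (e x))
    (htor : ∀ t ∈ T, ∃ d ∈ D, ∀ x, ((e (d x) : ↥(RGD.Sup X (RGD.Pos cs h))) : Y) = t * e x * t⁻¹)
    (F : FusionSystem (⊤ : Subgroup S))
    (hF : ∀ (Q : Subgroup S) (f : S → S), Mp F Q f ↔ ∃ α : MulAut Y, (∃ d ∈ D, ∀ x,
        ((e (d x) : ↥(RGD.Sup X (RGD.Pos cs h))) : Y) = α (e x)) ∧ Diag T X α 1 ∧ ∃ g : Y, ∀ x ∈ Q,
        ((e (f x) : ↥(RGD.Sup X (RGD.Pos cs h))) : Y) = g * α (e x) * g⁻¹) (i : I) (Q : Subgroup S)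
    (hQ : ∀ x, x ∈ Q ↔ ((e x : ↥(RGD.Sup X (RGD.Pos cs h))) : Y) ∈ VJ cs h X {i}) (γ : MulAut Q) :
    γ ∈ F.autGroup Q ↔ ∃ l ∈ autInducedBy (⊤ : Subgroup S) Q ⊔ Subgroup.closure {γ : MulAut Q | ∀ x : Q,
        ((e ((γ x : Q) : S) : ↥(RGD.Sup X (RGD.Pos cs h))) : Y) = n i * (e (x : S) : Y) * (n i)⁻¹},
      ∃ d ∈ D, ∃ δ : MulAut Q, (∀ x : Q, ((δ x : Q) : S) = d x) ∧ γ = l * δ := by
  classical
  have hG := Cfsg.Agent.KFacts.RgdRigid.GG_eq_top (T := T) hG1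
  have : Finite S := Finite.of_equiv _ e.symm.toEquiv
  have hinj : ∀ {x y : S}, ((e x : ↥(RGD.Sup X (RGD.Pos cs h))) : Y) = e y → x = y := fun h => e.injective (Subtype.ext h)
  have hU : ∀ {v : Y}, v ∈ VJ cs h X {i} → v ∈ RGD.Sup X (RGD.Pos cs h) := fun {v} hv => VJ_le_U _ hv
  have hnN : n i ∈ Subgroup.normalizer (VJ cs h X {i} : Set Y) :=
    PJ_le_normalizer_VJ R {i} (LJ_le_PJ (n_mem_LJ R (Set.mem_singleton i)))
  have hUN : ∀ {u : Y}, u ∈ RGD.Sup X (RGD.Pos cs h) → u ∈ Subgroup.normalizer (VJ cs h X {i} : Set Y) := by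
    intro u hu
    exact PJ_le_normalizer_VJ R {i} (B_le_PJ (RGD.U_le_B hu))
  -- the elements of the automorphism group
  have hmem : ∀ γ : MulAut Q, γ ∈ F.autGroup Q ↔ ∃ α : MulAut Y, (∃ d ∈ D, ∀ x,
        ((e (d x) : ↥(RGD.Sup X (RGD.Pos cs h))) : Y) = α (e x)) ∧ Diag T X α 1 ∧ ∃ g : Y, ∀ x : Q,
        ((e ((γ x : Q) : S) : ↥(RGD.Sup X (RGD.Pos cs h))) : Y) = g * α (e (x : S)) * g⁻¹ := by
    intro γ
    rw [mem_autGroup_iff F le_top]
    let φ : Q →* S := Q.subtype.comp γ.toMonoidHom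
    have h1 : φ ∈ F.Hom Q ↔ Mp F Q (ex φ) := by
      constructor
      · exact fun h => mp_ex h
      · intro h
        exact h.mem_hom fun x hx => (ex_apply (φ : Q → S) hx).symm
    show φ ∈ F.Hom Q ↔ _
    rw [h1, hF]
    constructor
    · rintro ⟨α, h2, h3, g, h4⟩
      refine ⟨α, h2, h3, g, fun x => ?_⟩
      rw [← h4 x x.2, ex_coe]
      rfl
    · rintro ⟨α, h2, h3, g, h4⟩
      refine ⟨α, h2, h3, g, fun x hx => ?_⟩
      rw [ex_apply (φ : Q → S) hx]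
      exact h4 ⟨x, hx⟩
  -- conjugations
  have hconj : ∀ g ∈ Subgroup.normalizer (VJ cs h X {i} : Set Y), ∃ γ : MulAut Q, ∀ x : Q,
      ((e ((γ x : Q) : S) : ↥(RGD.Sup X (RGD.Pos cs h))) : Y) = g * (e (x : S) : Y) * g⁻¹ := by
    intro g hg
    have hg1 : ∀ x : Q, g * (e (x : S) : Y) * g⁻¹ ∈ VJ cs h X {i} := fun x =>
      (Subgroup.mem_normalizer_iff.1 hg _).1 ((hQ x).1 x.2)
    let f : Q →* Q := MonoidHom.mk' (fun x => ⟨e.symm ⟨_, hU (hg1 x)⟩, (hQ _).2 (by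
      rw [e.apply_symm_apply]; exact hg1 x)⟩) fun x y => by
        apply Subtype.ext
        apply hinj
        show ((e (e.symm ⟨_, hU (hg1 (x * y))⟩) : ↥(RGD.Sup X (RGD.Pos cs h))) : Y) =
          e (e.symm ⟨_, hU (hg1 x)⟩ * e.symm ⟨_, hU (hg1 y)⟩)
        rw [map_mul, e.apply_symm_apply, e.apply_symm_apply, e.apply_symm_apply]
        show g * (e ((x * y : Q) : S) : Y) * g⁻¹ = (g * (e (x : S) : Y) * g⁻¹) * (g * (e (y : S) : Y) * g⁻¹)
        rw [Subgroup.coe_mul, map_mul, Subgroup.coe_mul]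
        group
    have hf : ∀ x : Q, ((e ((f x : Q) : S) : ↥(RGD.Sup X (RGD.Pos cs h))) : Y) = g * (e (x : S) : Y) * g⁻¹ := by
      intro x
      show ((e (e.symm ⟨_, hU (hg1 x)⟩) : ↥(RGD.Sup X (RGD.Pos cs h))) : Y) = _
      rw [e.apply_symm_apply]
    have hfi : Function.Injective f := by
      intro x y hxy
      apply Subtype.ext
      apply hinj
      have h1 := hf x
      rw [hxy, hf y] at h1
      exact (mul_left_cancel (mul_right_cancel h1)).symm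
    exact ⟨MulEquiv.ofBijective f (Finite.injective_iff_bijective.1 hfi), hf⟩
  -- conjugations by elements of `U`
  have hu : ∀ u ∈ RGD.Sup X (RGD.Pos cs h), ∃ γ ∈ autInducedBy (⊤ : Subgroup S) Q, ∀ x : Q,
      ((e ((γ x : Q) : S) : ↥(RGD.Sup X (RGD.Pos cs h))) : Y) = u * (e (x : S) : Y) * u⁻¹ := by
    intro u hu
    obtain ⟨γ, hγ⟩ := hconj u (hUN hu)
    refine ⟨γ, (mem_autInducedBy_iff _ _ _).2 ⟨e.symm ⟨u, hu⟩, Subgroup.mem_top _, fun x => ?_⟩, hγ⟩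
    apply hinj
    rw [hγ, map_mul, map_mul, map_inv, e.apply_symm_apply]
    rfl
  -- restrictions
  have hres : ∀ (d : MulAut S) (α : MulAut Y), Diag T X α 1 →
      (∀ x, ((e (d x) : ↥(RGD.Sup X (RGD.Pos cs h))) : Y) = α (e x)) → ∃ δ : MulAut Q, ∀ x : Q, ((δ x : Q) : S) = d x := by
    intro d α hα hd
    have h1 : ∀ x : Q, d x ∈ Q := fun x => (hQ _).2 (by rw [hd]; exact diag_fix_V R hα {i} ((hQ x).1 x.2))
    let f : Q →* Q := MonoidHom.mk' (fun x => ⟨d x, h1 x⟩) fun x y => Subtype.ext (map_mul d _ _)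
    have hfi : Function.Injective f := fun x y hxy => Subtype.ext (d.injective (congrArg Subtype.val hxy))
    exact ⟨MulEquiv.ofBijective f (Finite.injective_iff_bijective.1 hfi), fun x => rfl⟩
  -- `Λ ≤ Γ`
  have hle : autInducedBy (⊤ : Subgroup S) Q ⊔ Subgroup.closure {γ : MulAut Q | ∀ x : Q,
        ((e ((γ x : Q) : S) : ↥(RGD.Sup X (RGD.Pos cs h))) : Y) = n i * (e (x : S) : Y) * (n i)⁻¹} ≤ F.autGroup Q := by
    refine sup_le (autInducedBy_le_autGroup F le_top) ?_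
    rw [Subgroup.closure_le]
    intro γ hγ
    exact (hmem γ).2 ⟨1, ⟨1, one_mem _, fun x => rfl⟩, Diag.one, n i, hγ⟩
  have hTN : ∀ {t : Y}, t ∈ T → Diag T X (MulAut.conj t) 1 := fun ht => diag_conj R ht
  constructor
  · intro hγ
    obtain ⟨α, ⟨d, hd, h1⟩, hα, g, h2⟩ := (hmem γ).1 hγ
    have hg : g ∈ Subgroup.normalizer (VJ cs h X {i} : Set Y) := by
      have h3 : ∀ y ∈ VJ cs h X {i}, g * y * g⁻¹ ∈ VJ cs h X {i} := by
        intro y hy
        have D2 := hα.inv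
        rw [inv_one] at D2
        have hy' : α⁻¹ y ∈ VJ cs h X {i} := diag_fix_V R D2 {i} hy
        have hz : e.symm ⟨α⁻¹ y, hU hy'⟩ ∈ Q := by
          rw [hQ, e.apply_symm_apply]
          exact hy'
        have h4 := h2 ⟨_, hz⟩
        have h6 : ((e (((⟨e.symm ⟨α⁻¹ y, hU hy'⟩, hz⟩ : Q)) : S) : ↥(RGD.Sup X (RGD.Pos cs h))) : Y) = α⁻¹ y := by
          show ((e (e.symm ⟨α⁻¹ y, hU hy'⟩) : ↥(RGD.Sup X (RGD.Pos cs h))) : Y) = _
          rw [e.apply_symm_apply]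
        rw [h6, MulAut.apply_inv_self] at h4
        rw [← h4]
        exact (hQ _).1 (γ _).2
      exact Subgroup.mem_normalizer_fintype h3
    obtain ⟨u, hu', t, ht, hg'⟩ := mem_normalizer_VJ R hG hg
    obtain ⟨dt, hdt, h3⟩ := htor t ht
    have h4 : ∀ x, ((e ((dt * d) x) : ↥(RGD.Sup X (RGD.Pos cs h))) : Y) = (MulAut.conj t * α) (e x) := by
      intro x
      rw [MulAut.mul_apply, h3, h1]
      rfl
    have h4D : Diag T X (MulAut.conj t * α) 1 := by simpa using (hTN ht).mul hα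
    obtain ⟨δ, hδ⟩ := hres _ _ h4D h4
    have h4' : ∀ x, ((e ((dt * d) x) : ↥(RGD.Sup X (RGD.Pos cs h))) : Y) = t * α (e x) * t⁻¹ := h4
    obtain ⟨lb, hlb, hlb'⟩ := hu u hu'
    rcases hg' with hg' | ⟨b', hb', hg'⟩
    · refine ⟨lb, (le_sup_left : autInducedBy (⊤ : Subgroup S) Q ≤ _) hlb, dt * d, mul_mem hdt hd, δ, hδ, ?_⟩
      apply MulEquiv.ext
      intro x
      apply Subtype.ext
      apply hinj
      rw [h2, MulAut.mul_apply, hlb', hδ, h4', hg']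
      group
    · obtain ⟨lb2, hlb2, hlb2'⟩ := hu b' hb'
      obtain ⟨ν, hν⟩ := hconj _ hnN
      refine ⟨lb2 * ν * lb, mul_mem (mul_mem ((le_sup_left : autInducedBy (⊤ : Subgroup S) Q ≤ _) hlb2)
        ((le_sup_right : Subgroup.closure _ ≤ _) (Subgroup.subset_closure hν)))
        ((le_sup_left : autInducedBy (⊤ : Subgroup S) Q ≤ _) hlb), dt * d, mul_mem hdt hd, δ, hδ, ?_⟩
      apply MulEquiv.ext
      intro x
      apply Subtype.ext
      apply hinj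
      rw [h2, MulAut.mul_apply, MulAut.mul_apply, MulAut.mul_apply, hlb2', hν, hlb', hδ, h4', hg']
      group
  · rintro ⟨l, hl, d, hd, δ, hδ, rfl⟩
    refine mul_mem (hle hl) ?_
    obtain ⟨α, hα, h1⟩ := hext d hd
    refine (hmem δ).2 ⟨α, ⟨d, hd, h1⟩, hα, 1, fun x => ?_⟩
    rw [hδ, h1, one_mul, inv_one, mul_one]

end Cfsg.Agent.H491.FS
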